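import Groth.Agent.DepthLib.LocalSequence
import Groth.Agent.DepthLib.RegularLocal
import Groth.Agent.DepthLib.Reduced
import Groth.Agent.Ref1.Algebra
import Groth.Prelude.Def_Found
import Mathlib.RingTheory.Polynomial.Basic
import Mathlib.RingTheory.KrullDimension.Polynomial

/-!
# Sections over the complement of a closed set of codimension two

* `finite_of_regular`: finiteness when the domain is a quotient of a regular ring.
* `finite_of_catenary`: finiteness when it is universally catenary and N-2.
-/

universe u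

open Polynomial RingTheory.Sequence

namespace Groth.Agent.CompSections

open Groth.Agent.DepthLib LocCoh

theorem exists_saturated_of_bounded {α : Type*} [Preorder α] {a b : α} {N : ℕ}
    (hN : ∀ s : LTSeries α, s.head = a → s.last = b → s.length ≤ N) (s₀ : LTSeries α)
    (h1 : s₀.head = a) (h2 : s₀.last = b) :
    ∃ s : LTSeries α, s.head = a ∧ s.last = b ∧ s₀.length ≤ s.length ∧
      ∀ i : Fin s.length, s i.castSucc ⋖ s i.succ := by
  obtain ⟨k, hk⟩ : ∃ k, k = N - s₀.length := ⟨_, rfl⟩
  induction k using Nat.strong_induction_on generalizing s₀ with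
  | _ k ih =>
    by_cases hsat : ∀ i : Fin s₀.length, s₀ i.castSucc ⋖ s₀ i.succ
    · exact ⟨s₀, h1, h2, le_rfl, hsat⟩
    push Not at hsat
    obtain ⟨i, hi⟩ := hsat
    obtain ⟨c, hc1, hc2⟩ :=
      (not_covBy_iff (s₀.strictMono (Fin.castSucc_lt_succ (i := i)))).mp hi
    let t : LTSeries α := s₀.insertNth i c hc1 hc2
    have ht1 : t.head = a := by
      change Fin.insertNth (α := fun _ => α) (Fin.castSucc i.succ) c s₀.toFun 0 = a
      rw [Fin.insertNth_apply_below (by simp [Fin.lt_def])]
      simpa [RelSeries.head] using h1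
    have ht2 : t.last = b := by
      change Fin.insertNth (α := fun _ => α) (Fin.castSucc i.succ) c s₀.toFun (Fin.last _) = b
      rw [Fin.insertNth_apply_above (by simp [Fin.lt_def])]
      refine Eq.trans ?_ h2
      rw [eq_rec_constant]
      refine congrArg s₀.toFun ?_
      exact Fin.ext (by simp)
    have hl : t.length = s₀.length + 1 := rfl
    have hb := hN t ht1 ht2
    obtain ⟨s, e1, e2, e3, e4⟩ := ih (N - t.length) (by omega) t ht1 ht2 rfl
    exact ⟨s, e1, e2, by omega, e4⟩

section Monogenic

variable {S : Type u} [CommRing S]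

/-- In a catenary domain a prime with a saturated chain of length two above zero has height ≤ 2. -/
theorem false_of_chain_three (hcat : CAlg.IsCatenary S) {o q q₁ q₂ P : PrimeSpectrum S}
    (hq : o ⋖ q) (hP : q ⋖ P) (h1 : o < q₁) (h2 : q₁ < q₂) (h3 : q₂ < P) : False := by
  obtain ⟨N, hN⟩ := hcat.1 o P (h1.trans (h2.trans h3)).le
  let long : LTSeries (PrimeSpectrum S) := ⟨3, ![o, q₁, q₂, P], fun i => by fin_cases i <;> assumption⟩
  obtain ⟨s, e1, e2, e3, e4⟩ := exists_saturated_of_bounded hN long rfl rfl
  let short : LTSeries (PrimeSpectrum S) :=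
    ⟨2, ![o, q, P], fun i => by fin_cases i <;> [exact hq.1; exact hP.1]⟩
  have hsat : ∀ i : Fin short.length, short i.castSucc ⋖ short i.succ := by
    intro i
    change Fin 2 at i
    fin_cases i
    · exact hq
    · exact hP
  have := hcat.2 s short (e1.trans rfl) (e2.trans rfl) e4 hsat
  change 3 ≤ s.length at e3
  change s.length = 2 at this
  omega

end Monogenic

variable {R : Type u} [CommRing R] [IsDomain R]

/-- Going down one monogenic birational integral extension. -/
theorem height_comap_le_one {S : Type u} [CommRing S] [IsDomain S] [Algebra R S] {K : Type u} [Field K]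
    [Algebra R K] [IsFractionRing R K] [Algebra S K] [IsScalarTower R S K]
    (hcat : CAlg.IsCatenary R[X]) (c : S) (hc : IsIntegral R c)
    (hgen : Function.Surjective (aeval c : R[X] →ₐ[R] S)) (P : Ideal S) [P.IsPrime] (hP : P.height ≤ 1) :
    (P.comap (algebraMap R S)).height ≤ 1 := by
  let φ : R[X] →+* S := (aeval c : R[X] →ₐ[R] S).toRingHom
  let p := P.comap (algebraMap R S)
  have hφC : ∀ a : R, φ (C a) = algebraMap R S a := fun a => aeval_C c a
  have injR : Function.Injective (algebraMap R S) := fun a b h => IsFractionRing.injective R K (by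
    rw [IsScalarTower.algebraMap_apply R S K, IsScalarTower.algebraMap_apply R S K, h])
  by_cases hP0 : P = ⊥
  · have : p = ⊥ := by
      refine eq_bot_iff.mpr fun a ha => injR ?_
      rw [map_zero]
      have : algebraMap R S a ∈ P := ha
      rwa [hP0, Ideal.mem_bot] at this
    change p.height ≤ 1
    rw [this, Ideal.height_bot]
    exact zero_le
  by_contra hp
  have hp' : 1 < p.height := not_le.mp hp
  have hp0 : p ≠ ⊥ := fun e => by rw [e, Ideal.height_bot] at hp'; exact not_lt.mpr zero_le hp'
  obtain ⟨p₁, hp₁, hp₁0, hp₁p⟩ : ∃ p₁ : Ideal R, p₁.IsPrime ∧ p₁ ≠ ⊥ ∧ p₁ < p := by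
    by_contra hne
    push Not at hne
    refine hp ((Ideal.height_le_iff (p := p) (n := 1)).mpr fun q hq hqp => ?_)
    rw [Decidable.byContradiction (fun h => hne q hq h hqp), Ideal.height_bot]
    exact zero_lt_one
  let Q : PrimeSpectrum R[X] := ⟨RingHom.ker φ, RingHom.ker_isPrime φ⟩
  let P' : PrimeSpectrum R[X] := ⟨P.comap φ, inferInstance⟩
  let o : PrimeSpectrum R[X] := ⟨⊥, Ideal.isPrime_bot⟩
  let q₁ : PrimeSpectrum R[X] := ⟨p₁.map C, inferInstance⟩
  let q₂ : PrimeSpectrum R[X] := ⟨p.map C, inferInstance⟩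
  obtain ⟨f, hf, hf0⟩ := hc
  have hfQ : f ∈ Q.asIdeal := hf0
  have hf1 : f ≠ 0 := hf.ne_zero
  have h2P : q₂ < P' := by
    refine PrimeSpectrum.asIdeal_lt_asIdeal _ _ |>.mp (lt_of_le_of_ne ?_ fun e => ?_)
    · exact Ideal.map_le_iff_le_comap.mpr fun a ha => show φ (C a) ∈ P by rw [hφC]; exact ha
    · have : f ∈ P'.asIdeal := show φ f ∈ P by rw [show φ f = 0 from hf0]; exact zero_mem _
      rw [← e] at this
      have h := (Ideal.mem_map_C_iff.mp this) f.natDegree
      rw [show f.coeff f.natDegree = 1 from hf] at h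
      exact (inferInstance : p.IsPrime).ne_top ((Ideal.eq_top_iff_one p).mpr h)
  have h12 : q₁ < q₂ := by
    refine PrimeSpectrum.asIdeal_lt_asIdeal _ _ |>.mp (lt_of_le_of_ne (Ideal.map_mono hp₁p.le) fun e => ?_)
    refine hp₁p.not_ge fun a ha => ?_
    have : C a ∈ p₁.map C := (show p₁.map C = p.map C from e) ▸ Ideal.mem_map_of_mem C ha
    simpa using Ideal.mem_map_C_iff.mp this 0
  have ho1 : o < q₁ := by
    refine PrimeSpectrum.asIdeal_lt_asIdeal _ _ |>.mp (bot_lt_iff_ne_bot.mpr fun e => hp₁0 ?_)
    exact (Ideal.map_eq_bot_iff_of_injective C_injective).mp e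
  have hQ : o ⋖ Q := by
    refine ⟨PrimeSpectrum.asIdeal_lt_asIdeal _ _ |>.mp (bot_lt_iff_ne_bot.mpr fun e => hf1 ?_), fun Q₀ h0 h1 => ?_⟩
    · rwa [e, Ideal.mem_bot] at hfQ
    let _ : Algebra R[X] K[X] := (mapRingHom (algebraMap R K)).toAlgebra
    have := Polynomial.isLocalization (R := R) (nonZeroDivisors R) K
    let M := (nonZeroDivisors R).map (C : R →+* R[X])
    have hdQ : Disjoint (M : Set R[X]) (Q.asIdeal : Set R[X]) := by
      refine Set.disjoint_left.mpr ?_
      rintro _ ⟨r, hr, rfl⟩ hrQ
      refine nonZeroDivisors.ne_zero hr (injR ?_)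
      rw [map_zero, ← hφC]
      exact hrQ
    have hle : Q₀.asIdeal ≤ Q.asIdeal := h1.le
    have hd0 : Disjoint (M : Set R[X]) (Q₀.asIdeal : Set R[X]) := hdQ.mono_right hle
    have i0 := IsLocalization.isPrime_of_isPrime_disjoint M K[X] Q₀.asIdeal Q₀.2 hd0
    have iQ := IsLocalization.isPrime_of_isPrime_disjoint M K[X] Q.asIdeal Q.2 hdQ
    have c0 := IsLocalization.under_map_of_isPrime_disjoint M K[X] Q₀.2 hd0
    have cQ := IsLocalization.under_map_of_isPrime_disjoint M K[X] Q.2 hdQ
    have hne : Q₀.asIdeal.map (algebraMap R[X] K[X]) ≠ ⊥ := fun e => by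
      rw [Ideal.map_eq_bot_iff_of_injective (map_injective _ (IsFractionRing.injective R K))] at e
      exact h0.ne (PrimeSpectrum.ext e.symm)
    have := (i0.isMaximal hne).eq_of_le iQ.ne_top (Ideal.map_mono hle)
    have hQQ : Q₀.asIdeal = Q.asIdeal := c0.symm.trans ((congrArg _ this).trans cQ)
    exact h1.ne (PrimeSpectrum.ext hQQ)
  have hQP : Q ⋖ P' := by
    refine ⟨PrimeSpectrum.asIdeal_lt_asIdeal _ _ |>.mp (lt_of_le_of_ne (Ideal.ker_le_comap φ) fun e => hP0 ?_),
      fun Q₁ h1 h2 => ?_⟩
    · rw [← Ideal.map_comap_of_surjective φ hgen P]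
      change Ideal.map φ P'.asIdeal = ⊥
      rw [← e]
      exact Ideal.map_eq_bot_iff_le_ker _ |>.mpr le_rfl
    have hk : RingHom.ker φ ≤ Q₁.asIdeal := h1.le
    have := Ideal.map_isPrime_of_surjective hgen hk
    have h1' : Q₁.asIdeal.map φ ≠ ⊥ := fun e => h1.ne (PrimeSpectrum.ext
      (le_antisymm hk ((Ideal.map_eq_bot_iff_le_ker _).mp e)))
    have h2' : Q₁.asIdeal.map φ < P := by
      refine lt_of_le_of_ne (Ideal.map_le_iff_le_comap.mpr h2.le) fun e => h2.ne (PrimeSpectrum.ext ?_)
      change Q₁.asIdeal = P.comap φ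
      rw [← e, Ideal.comap_map_of_surjective φ hgen]
      exact (sup_eq_left.mpr hk).symm
    have := Ideal.height_le_iff.mp hP _ this h2'
    rw [Nat.cast_one, Order.lt_one_iff, Ideal.height_eq_zero_iff_eq_bot] at this
    exact h1' this
  exact false_of_chain_three hcat hQ hQP ho1 h12 h2P

omit [IsDomain R] in
/-- Going down a finitely generated birational integral extension. -/
theorem height_comap_adjoin_le_one {K : Type u} [Field K] [Algebra R K] [IsFractionRing R K]
    (hcat : ∀ T : Subalgebra R K, T.FG → CAlg.IsCatenary T[X]) (s : Finset K)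
    (hs : ∀ c ∈ s, IsIntegral R c) :
    ∀ P : Ideal (Algebra.adjoin R (s : Set K)), P.IsPrime → P.height ≤ 1 →
      (P.comap (algebraMap R _)).height ≤ 1 := by
  classical
  induction s using Finset.induction with
  | empty =>
    intro P _ h
    have hb : Function.Bijective (algebraMap R (Algebra.adjoin R ((∅ : Finset K) : Set K))) := by
      refine ⟨fun a b e => IsFractionRing.injective R K (congrArg Subtype.val e), fun y => ?_⟩
      have hy : (y : K) ∈ (⊥ : Subalgebra R K) := by
        rw [← Algebra.adjoin_empty R K, ← Finset.coe_empty]; exact y.2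
      obtain ⟨a, ha⟩ := Algebra.mem_bot.mp hy
      exact ⟨a, Subtype.ext ha⟩
    exact ((RingEquiv.ofBijective _ hb).height_comap P).trans_le h
  | @insert c s hcs ih =>
    intro P _ h
    let T := Algebra.adjoin R (s : Set K)
    let S := Algebra.adjoin R ((insert c s : Finset K) : Set K)
    have hTS : T ≤ S := Algebra.adjoin_mono (by simp)
    let _ : Algebra T S := (Subalgebra.inclusion hTS).toAlgebra
    have : IsScalarTower T S K := IsScalarTower.of_algebraMap_eq fun _ => rfl
    have : IsFractionRing T K := by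
      have : FaithfulSMul T K := (faithfulSMul_iff_algebraMap_injective T K).mpr Subtype.val_injective
      refine IsFractionRing.of_field T K fun z => ?_
      obtain ⟨a, b, _, rfl⟩ := IsFractionRing.div_surjective (A := R) z
      exact ⟨algebraMap R T a, algebraMap R T b, rfl⟩
    let c' : S := ⟨c, Algebra.subset_adjoin (by simp)⟩
    have hc' : IsIntegral T c' := by
      refine (isIntegral_algebraMap_iff (Subtype.val_injective : Function.Injective (algebraMap S K))).mp ?_
      exact (hs c (Finset.mem_insert_self c s)).tower_top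
    have hgen : Function.Surjective (aeval c' : T[X] →ₐ[T] S) := by
      intro y
      suffices h : ∀ z ∈ S, ∃ f : T[X], ((aeval c' f : S) : K) = z by
        obtain ⟨f, hf⟩ := h y y.2
        exact ⟨f, Subtype.ext hf⟩
      intro z hz
      induction hz using Algebra.adjoin_induction with
      | mem z hz =>
        rcases (Finset.mem_insert.mp (Finset.mem_coe.mp hz)) with rfl | hz
        · exact ⟨X, by rw [aeval_X]⟩
        · exact ⟨C ⟨z, Algebra.subset_adjoin hz⟩, by rw [aeval_C]; rfl⟩
      | algebraMap a => exact ⟨C (algebraMap R T a), by rw [aeval_C]; rfl⟩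
      | add a b _ _ ha hb =>
        obtain ⟨f, hf⟩ := ha; obtain ⟨g, hg⟩ := hb
        exact ⟨f + g, by rw [map_add, Subalgebra.coe_add, hf, hg]⟩
      | mul a b _ _ ha hb =>
        obtain ⟨f, hf⟩ := ha; obtain ⟨g, hg⟩ := hb
        exact ⟨f * g, by rw [map_mul, Subalgebra.coe_mul, hf, hg]⟩
    have h1 := height_comap_le_one (K := K) (hcat T ⟨s, rfl⟩) c' hc' hgen P h
    have h2 := ih (fun d hd => hs d (Finset.mem_insert_of_mem hd)) (P.comap (algebraMap T S)) inferInstance h1
    have e : (algebraMap T S).comp (algebraMap R T) = algebraMap R S := RingHom.ext fun r => Subtype.ext rfl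
    rwa [Ideal.comap_comap, e] at h2

section Subalgebra

variable {B : Type u} [CommRing B] (J : Ideal B) (K : Type u) [Field K] [Algebra B K]

/-- The elements of `K` lying in `B_p` for all primes `p` not containing `J`. -/
def secSubalgebra : Subalgebra B K where
  carrier := {x | ∀ (p : Ideal B) [p.IsPrime], ¬ J ≤ p →
    ∃ s : B, s ∉ p ∧ ∃ a : B, algebraMap B K a = algebraMap B K s * x}
  mul_mem' {x y} hx hy := fun p hp hJ => by
    obtain ⟨s, hs, a, ha⟩ := hx p hJ
    obtain ⟨t, ht, b, hb⟩ := hy p hJ
    exact ⟨s * t, fun h => (hp.mem_or_mem h).elim hs ht, a * b, by rw [map_mul, map_mul, ha, hb]; ring⟩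
  add_mem' {x y} hx hy := fun p hp hJ => by
    obtain ⟨s, hs, a, ha⟩ := hx p hJ
    obtain ⟨t, ht, b, hb⟩ := hy p hJ
    exact ⟨s * t, fun h => (hp.mem_or_mem h).elim hs ht, a * t + b * s, by
      rw [map_add, map_mul, map_mul, map_mul, ha, hb]; ring⟩
  algebraMap_mem' r := fun p hp _ => ⟨1, fun h => hp.ne_top ((Ideal.eq_top_iff_one p).mpr h), r, by
    rw [map_one, one_mul]⟩

variable {J K}

/-- Finiteness for a universally catenary N-2 domain. -/
theorem finite_of_catenary [IsDomain B] [IsNoetherianRing B] [IsFractionRing B K]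
    (hcat : ∀ T : Subalgebra B K, T.FG → CAlg.IsCatenary T[X])
    (hfin : Module.Finite B (integralClosure B K)) (hJ : (2 : ℕ∞) ≤ J.height) :
    Module.Finite B (secSubalgebra J K) := by
  obtain ⟨s, hs⟩ := Module.Finite.iff_fg.mp (show Module.Finite B (Subalgebra.toSubmodule (integralClosure B K)) from hfin)
  have hsint : ∀ c ∈ s, IsIntegral B c := fun c hc => by
    have : c ∈ Subalgebra.toSubmodule (integralClosure B K) := hs ▸ Submodule.subset_span hc
    exact this
  let T := Algebra.adjoin B (s : Set K)
  have hT : T = integralClosure B K := le_antisymm (Algebra.adjoin_le fun c hc => hsint c hc) fun y hy => by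
    have : y ∈ Submodule.span B (s : Set K) := by rw [hs]; exact hy
    exact Algebra.span_le_adjoin B _ this
  have : Module.Finite B T := hT.symm ▸ hfin
  have : IsNoetherianRing T := IsNoetherianRing.of_finite B T
  have : IsFractionRing T K := by
    have : FaithfulSMul T K := (faithfulSMul_iff_algebraMap_injective T K).mpr Subtype.val_injective
    refine IsFractionRing.of_field T K fun z => ?_
    obtain ⟨a, b, _, rfl⟩ := IsFractionRing.div_surjective (A := B) z
    exact ⟨algebraMap B T a, algebraMap B T b, rfl⟩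
  have : IsIntegrallyClosed T := (isIntegrallyClosed_iff K).mpr fun {y} hy => by
    have hy' : IsIntegral B y := isIntegral_trans (A := T) y hy
    exact ⟨⟨y, (show y ∈ T from hT ▸ hy')⟩, rfl⟩
  have hle : Subalgebra.toSubmodule (secSubalgebra J K) ≤ Subalgebra.toSubmodule T := by
    intro x hx
    obtain ⟨y, rfl⟩ := Ref1.mem_range_of_forall_height_one (A := T) x fun P hP hP1 => by
      have h1 := height_comap_adjoin_le_one hcat s hsint P hP hP1.le
      obtain ⟨u, hu, a, ha⟩ := hx (P.comap (algebraMap B T))
        (fun hle => not_lt.mpr ((Ideal.height_mono hle).trans h1) (lt_of_lt_of_le (by norm_num) hJ))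
      exact ⟨algebraMap B T u, algebraMap B T a, hu, ha.symm⟩
    exact y.2
  have : IsNoetherian B (Subalgebra.toSubmodule T) := isNoetherian_of_isNoetherianRing_of_finite B _
  exact Module.Finite.of_injective (Submodule.inclusion hle) (Submodule.inclusion_injective hle)

/-- Finiteness for a quotient of a regular ring: `B'` embeds into `R/(f)`, a Cohen–Macaulay module. -/
theorem finite_of_regular [IsDomain B] [IsFractionRing B K] {R : Type u} [CommRing R] [IsRegularRing R]
    (π : R →+* B) (hπ : Function.Surjective π) (hJ : (2 : ℕ∞) ≤ J.height) :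
    Module.Finite B (secSubalgebra J K) := by
  let _ : Algebra R B := π.toAlgebra
  let _ : Algebra R K := ((algebraMap B K).comp π).toAlgebra
  have : IsScalarTower R B K := IsScalarTower.of_algebraMap_eq fun _ => rfl
  have : IsNoetherianRing B := isNoetherianRing_of_surjective R B π hπ
  let q := RingHom.ker π
  have : q.IsPrime := RingHom.ker_isPrime π
  -- a maximal regular sequence in `q`
  obtain ⟨rs, -, hrs, hrsq, hmax⟩ := exists_maximal_extension (M := R) (I := q)
    (by rw [smul_eq_mul, Ideal.mul_top]; exact Ideal.IsPrime.ne_top inferInstance)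
    (IsWeaklyRegular.nil R R) (by simp)
  let G := R ⧸ (Ideal.ofList rs • ⊤ : Submodule R R)
  have hdep : ∀ (p : Ideal R) [p.IsPrime], q ≤ p →
      depth (Localization.AtPrime p) (LocalizedModule p.primeCompl G) + rs.length = p.height := by
    intro p _ hqp
    have : Nontrivial (LocalizedModule p.primeCompl R) := (localizedSelfEquiv p).toEquiv.nontrivial
    have h1 := (depth_supportDim_quot_list (M := R) p (rs := rs) (fun r hr => hqp (hrsq r hr))
      (hrs.of_isLocalizedModule (Localization.AtPrime p) p.primeCompl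
        (LocalizedModule.mkLinearMap p.primeCompl R))).1
    have := isCohenMacaulayLocalRing_of_isRegularLocalRing (Localization.AtPrime p)
    have h2 := ringKrullDim_eq_depth (R := Localization.AtPrime p)
    rw [IsLocalization.AtPrime.ringKrullDim_eq_height p] at h2
    rw [h1, depth_localization_self, WithBot.coe_injective h2]
  have hc : (rs.length : ℕ∞) ≤ q.height := by
    rw [← hdep q le_rfl]
    exact le_add_self
  -- an element of `G` with annihilator `q`
  obtain ⟨g, hg⟩ : ∃ g : G, ∀ r : R, r • g = 0 ↔ r ∈ q := by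
    have h0 : idealDepth q G = 0 := by
      by_contra hne
      obtain ⟨r, hr, hreg⟩ := one_le_idealDepth_iff.mp (Order.one_le_iff_pos.mpr (pos_iff_ne_zero.mpr hne))
      exact hmax r hr ((isWeaklyRegular_concat_iff rs r).mpr ⟨hrs, hreg⟩)
    obtain ⟨P, hP, hqP⟩ := idealDepth_eq_zero_iff.mp h0
    obtain ⟨hPp, g, hg⟩ := isAssociatedPrime_iff.mp hP
    have h1 := hdep P hqP
    rw [depth_localization_eq_zero_of_mem_associatedPrimes P hP, zero_add] at h1
    have hPq : q = P := q.eq_of_le_of_height_le hqP (h1 ▸ hc)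
    refine ⟨g, fun r => ?_⟩
    rw [hPq, hg, Submodule.mem_colon_singleton, Submodule.mem_bot]
  -- two regular elements in the ideal of denominators
  have key : ∀ x ∈ secSubalgebra J K, ∃ u : G, ∃ a α : R, IsSMulRegular G a ∧
      algebraMap R K α = algebraMap R K a * x ∧
      ∀ j γ : R, algebraMap R K γ = algebraMap R K j * x → j • u = γ • g := by
    intro x hx
    let I : Ideal R :=
      { carrier := {j | ∃ γ : R, algebraMap R K γ = algebraMap R K j * x}
        add_mem' := fun {i j} ⟨a, ha⟩ ⟨b, hb⟩ => ⟨a + b, by rw [map_add, map_add, ha, hb]; ring⟩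
        zero_mem' := ⟨0, by rw [map_zero, zero_mul]⟩
        smul_mem' := fun r {j} ⟨a, ha⟩ => ⟨r * a, by rw [smul_eq_mul, map_mul, map_mul, ha]; ring⟩ }
    have hqI : ∀ r ∈ q, algebraMap R K r = 0 := fun r (hr : π r = 0) => by
      change algebraMap B K (π r) = 0
      rw [hr, map_zero]
    have hI : (2 : ℕ∞) ≤ idealDepth I G := by
      rw [← Nat.cast_two, natCast_le_idealDepth_iff_forall_localization]
      intro p _ hIp
      have hqp : q ≤ p := fun r hr => hIp ⟨0, by rw [hqI r hr, zero_mul, map_zero]⟩
      let p' := p.map π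
      have hp' : p'.IsPrime := Ideal.map_isPrime_of_surjective hπ hqp
      have hpc : p'.comap π = p := by
        rw [Ideal.comap_map_of_surjective π hπ]; exact sup_eq_left.mpr hqp
      have hJp : J ≤ p' := by
        by_contra hnot
        obtain ⟨s, hs, a, ha⟩ := hx p' hnot
        obtain ⟨s, rfl⟩ := hπ s
        obtain ⟨a, rfl⟩ := hπ a
        exact hs (Ideal.mem_map_of_mem π (hIp ⟨a, ha⟩))
      have h2 : (2 : ℕ∞) ≤ p'.height := hJ.trans (Ideal.height_mono hJp)
      obtain ⟨p₁, hp₁, hp₁0, hp₁p⟩ : ∃ p₁ : Ideal B, p₁.IsPrime ∧ p₁ ≠ ⊥ ∧ p₁ < p' := by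
        by_contra hne
        push Not at hne
        have : p'.height ≤ 1 := Ideal.height_le_iff.mpr fun r hr hrp => by
          rw [Decidable.byContradiction (fun h => hne r hr h hrp), Ideal.height_bot]
          exact zero_lt_one
        exact not_lt.mpr (h2.trans this) (by norm_num)
      have l1 : q < p₁.comap π := lt_of_le_of_ne (Ideal.ker_le_comap π) fun e => hp₁0 (by
        rw [← Ideal.map_comap_of_surjective π hπ p₁, ← e]
        exact (Ideal.map_eq_bot_iff_le_ker π).mpr le_rfl)
      have l2 : p₁.comap π < p := lt_of_le_of_ne (hpc ▸ Ideal.comap_mono hp₁p.le) fun e => hp₁p.ne (by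
        rw [← Ideal.map_comap_of_surjective π hπ p₁, e])
      have h3 : q.height + 2 ≤ p.height :=
        calc q.height + 2 = q.height + 1 + 1 := by rw [add_assoc, one_add_one_eq_two]
          _ ≤ (p₁.comap π).height + 1 := by gcongr; exact Ideal.height_add_one_le_of_lt_of_isPrime l1
          _ ≤ p.height := Ideal.height_add_one_le_of_lt_of_isPrime l2
      have h4 := (add_le_add_left hc 2).trans h3
      rw [← hdep p hqp, add_comm _ (2 : ℕ∞), ENat.add_le_add_iff_right (ENat.natCast_ne_top _)] at h4
      exact_mod_cast h4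
    obtain ⟨a, ha, hareg, b, hb, hbreg⟩ := two_le_idealDepth_iff.mp hI
    obtain ⟨α, hα⟩ : ∃ γ : R, algebraMap R K γ = algebraMap R K a * x := ha
    obtain ⟨β, hβ⟩ : ∃ γ : R, algebraMap R K γ = algebraMap R K b * x := hb
    have hαβ : b • α • g = a • β • g := by
      rw [smul_smul, smul_smul, ← sub_eq_zero, ← sub_smul, hg, RingHom.mem_ker]
      apply IsFractionRing.injective B K
      rw [map_zero]
      change algebraMap R K (b * α - a * β) = 0
      rw [map_sub, map_mul, map_mul, hα, hβ]
      ring
    have hzero : (Submodule.Quotient.mk (α • g) : QuotSMulTop a G) = 0 := by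
      refine hbreg.right_eq_zero_of_smul ?_
      rw [← Submodule.Quotient.mk_smul, hαβ, Submodule.Quotient.mk_eq_zero]
      exact Submodule.smul_mem_pointwise_smul _ _ _ Submodule.mem_top
    obtain ⟨u, -, hu⟩ := (Submodule.Quotient.mk_eq_zero _).mp hzero
    refine ⟨u, a, α, hareg, hα, fun j γ hγ => hareg ?_⟩
    change a • j • u = a • γ • g
    rw [smul_comm a j u]
    change j • (a • u) = _
    rw [show a • u = α • g from hu, smul_smul, smul_smul, ← sub_eq_zero, ← sub_smul, hg, RingHom.mem_ker]
    apply IsFractionRing.injective B K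
    rw [map_zero]
    change algebraMap R K (j * α - a * γ) = 0
    rw [map_sub, map_mul, map_mul, hα, hγ]
    ring
  choose u a α hareg hα hu using key
  let f : secSubalgebra J K →ₗ[R] G :=
    { toFun := fun x => u x.1 x.2
      map_add' := fun x y => by
        refine ((hareg x.1 x.2).mul (hareg y.1 y.2)) ?_
        change (a x.1 x.2 * a y.1 y.2) • _ = (a x.1 x.2 * a y.1 y.2) • _
        rw [smul_add, hu _ _ _ (α x.1 x.2 * a y.1 y.2 + α y.1 y.2 * a x.1 x.2) (by
            rw [map_add, map_mul, map_mul, map_mul, hα, hα, Subalgebra.coe_add]; ring),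
          hu x.1 x.2 _ (α x.1 x.2 * a y.1 y.2) (by rw [map_mul, map_mul, hα]; ring),
          hu y.1 y.2 _ (α y.1 y.2 * a x.1 x.2) (by rw [map_mul, map_mul, hα]; ring), add_smul]
      map_smul' := fun r x => by
        refine hareg x.1 x.2 ?_
        change a x.1 x.2 • u _ _ = a x.1 x.2 • r • u x.1 x.2
        rw [smul_comm _ r, hu x.1 x.2 _ _ (hα x.1 x.2),
          hu _ _ _ (r * α x.1 x.2) (by
            rw [map_mul, hα, Algebra.smul_def]
            exact mul_left_comm _ _ _), mul_smul] }
  have hinj : Function.Injective f := by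
    rw [injective_iff_map_eq_zero]
    intro x hx
    have hx' : u x.1 x.2 = 0 := hx
    have h := hu x.1 x.2 _ _ (hα x.1 x.2)
    rw [hx', smul_zero, eq_comm, hg, RingHom.mem_ker] at h
    have ha0 : algebraMap R K (a x.1 x.2) ≠ 0 := fun e => by
      have : π (a x.1 x.2) = 0 := IsFractionRing.injective B K (e.trans (map_zero _).symm)
      have h' : a x.1 x.2 • g = 0 := (hg _).mpr this
      have hg0 : g ≠ 0 := fun e => (inferInstance : q.IsPrime).ne_top
        ((Ideal.eq_top_iff_one q).mpr ((hg 1).mp (by rw [e, smul_zero])))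
      exact hg0 (hareg x.1 x.2 (h'.trans (smul_zero _).symm))
    have h2 : algebraMap R K (a x.1 x.2) * x.1 = 0 := by
      rw [← hα x.1 x.2]
      change algebraMap B K (π _) = 0
      rw [h, map_zero]
    exact Subtype.ext ((mul_eq_zero.mp h2).resolve_left ha0)
  have : Module.Finite R (secSubalgebra J K) := Module.Finite.of_injective f hinj
  exact Module.Finite.of_restrictScalars_finite R B _

end Subalgebra

end Groth.Agent.CompSections
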